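import Groth.Agent.AssPts.Basic

/-!
(Weakly) associated primes of a module and points of the associated sheaf on the spectrum.
-/

set_option autoImplicit false
universe u v w

open AlgebraicGeometry CategoryTheory TopologicalSpace

namespace Groth.Agent.AssTilde

theorem weakAss_congr {R R' : Type u} [CommRing R] [CommRing R'] {M M' : Type v} [AddCommGroup M] [Module R M]
    [AddCommGroup M'] [Module R' M'] (σ : R →+* R') (hσ : Function.Bijective σ) (j : M → M')
    (hj : Function.Bijective j) (hsmul : ∀ r m, j (r • m) = σ r • j m) (hj0 : j 0 = 0) (p : Ideal R') :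
    p ∈ FlatCA.weakAss R' M' ↔ p.comap σ ∈ FlatCA.weakAss R M := by
  have hz : ∀ (r : R) (m : M), σ r • j m = 0 ↔ r • m = 0 := fun r m => by
    rw [← hsmul, ← hj0]; exact hj.1.eq_iff
  rw [WeakAss.mem_weakAss_iff, WeakAss.mem_weakAss_iff]
  constructor
  · rintro ⟨hp, m', h1, h2⟩
    obtain ⟨m, rfl⟩ := hj.2 m'
    refine ⟨hp.comap σ, m, fun r hr => h1 _ ((hz r m).2 hr), fun a ha => ?_⟩
    obtain ⟨s, hs, n, hn⟩ := h2 _ ha
    obtain ⟨s, rfl⟩ := hσ.2 s
    exact ⟨s, hs, n, (hz _ m).1 (by rwa [map_mul, map_pow])⟩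
  · rintro ⟨hp, m, h1, h2⟩
    have hp' : p.IsPrime := by
      rw [← Ideal.map_comap_of_surjective σ hσ.2 p]
      exact Ideal.map_isPrime_of_equiv (RingEquiv.ofBijective σ hσ)
    refine ⟨hp', j m, fun r hr => ?_, fun a ha => ?_⟩
    · obtain ⟨r, rfl⟩ := hσ.2 r
      exact h1 r ((hz r m).1 hr)
    · obtain ⟨a, rfl⟩ := hσ.2 a
      obtain ⟨s, hs, n, hn⟩ := h2 a ha
      exact ⟨σ s, hs, n, by rw [← map_pow, ← map_mul]; exact (hz _ m).2 hn⟩

variable (A : CommRingCat.{u}) (M : ModuleCat.{u} A) (p : Spec A)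

theorem mem_weakAss_iff_isWeakAssPoint :
    p.asIdeal ∈ FlatCA.weakAss A M ↔ Curv2.IsWeakAssPoint (tilde M) p := by
  have hU : IsAffineOpen (⊤ : (Spec A).Opens) := isAffineOpen_top _
  haveI : (tilde M).IsQuasicoherent := inferInstance
  rw [AssPts.isWeakAssPoint_iff (tilde M) hU p trivial]
  let σ : A →+* Γ(Spec A, ⊤) := (Scheme.ΓSpecIso A).inv.hom
  have hσ : Function.Bijective σ := ConcreteCategory.bijective_of_isIso (Scheme.ΓSpecIso A).inv
  let j : M → Γ(tilde M, ⊤) := fun m => (tilde.toOpen M ⊤).hom m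
  have hj : Function.Bijective j := ConcreteCategory.bijective_of_isIso (tilde.toOpen M ⊤)
  have hsmul : ∀ r m, j (r • m) = σ r • j m := fun r m => by
    show (tilde.toOpen M ⊤).hom (r • m) = _
    rw [map_smul]
    show r • j m = _
    rw [Scheme.Modules.smul_Spec_def]
    congr 1
  have hprime : (hU.primeIdealOf ⟨p, trivial⟩).asIdeal.comap σ = p.asIdeal := by
    ext a
    rw [Ideal.mem_comap, ← not_iff_not, AssPts.notMem_prime_iff hU p trivial, ← Scheme.mem_basicOpen _ _ p (by exact Opens.mem_top p)]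
    exact Iff.of_eq (congrArg (fun U : (Spec A).Opens => p ∈ U) (basicOpen_eq_of_affine a))
  rw [weakAss_congr σ hσ j hj hsmul (map_zero _), hprime]

end Groth.Agent.AssTilde
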